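import Cfsg.Agent.Lib.Helper28.Y555.C31671.ChkDefs

set_option autoImplicit false
set_option linter.unusedVariables false
set_option Elab.async false

namespace Cfsg.Agent.Lib.Helper28.Y555.C31671

open Cfsg.Agent.Lib.Helper28.Y555Sub.P10 (Gen)
open Cfsg.Agent.Lib.Helper28.TC

noncomputable section

theorem factP_blk288 : allRange factP 6 (288 * 2 ^ 6) = true := by decide +kernel
theorem factP_blk289 : allRange factP 6 (289 * 2 ^ 6) = true := by decide +kernel
theorem factP_blk290 : allRange factP 6 (290 * 2 ^ 6) = true := by decide +kernel
theorem factP_blk291 : allRange factP 6 (291 * 2 ^ 6) = true := by decide +kernel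
theorem factP_blk292 : allRange factP 6 (292 * 2 ^ 6) = true := by decide +kernel
theorem factP_blk293 : allRange factP 6 (293 * 2 ^ 6) = true := by decide +kernel
theorem factP_blk294 : allRange factP 6 (294 * 2 ^ 6) = true := by decide +kernel
theorem factP_blk295 : allRange factP 6 (295 * 2 ^ 6) = true := by decide +kernel
theorem factP_blk296 : allRange factP 6 (296 * 2 ^ 6) = true := by decide +kernel
theorem factP_blk297 : allRange factP 6 (297 * 2 ^ 6) = true := by decide +kernel
theorem factP_blk298 : allRange factP 6 (298 * 2 ^ 6) = true := by decide +kernel
theorem factP_blk299 : allRange factP 6 (299 * 2 ^ 6) = true := by decide +kernel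
theorem factP_blk300 : allRange factP 6 (300 * 2 ^ 6) = true := by decide +kernel
theorem factP_blk301 : allRange factP 6 (301 * 2 ^ 6) = true := by decide +kernel
theorem factP_blk302 : allRange factP 6 (302 * 2 ^ 6) = true := by decide +kernel
theorem factP_blk303 : allRange factP 6 (303 * 2 ^ 6) = true := by decide +kernel
theorem factP_blk304 : allRange factP 6 (304 * 2 ^ 6) = true := by decide +kernel
theorem factP_blk305 : allRange factP 6 (305 * 2 ^ 6) = true := by decide +kernel
theorem factP_blk306 : allRange factP 6 (306 * 2 ^ 6) = true := by decide +kernel
theorem factP_blk307 : allRange factP 6 (307 * 2 ^ 6) = true := by decide +kernel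
theorem factP_blk308 : allRange factP 6 (308 * 2 ^ 6) = true := by decide +kernel
theorem factP_blk309 : allRange factP 6 (309 * 2 ^ 6) = true := by decide +kernel
theorem factP_blk310 : allRange factP 6 (310 * 2 ^ 6) = true := by decide +kernel
theorem factP_blk311 : allRange factP 6 (311 * 2 ^ 6) = true := by decide +kernel
theorem factP_blk312 : allRange factP 6 (312 * 2 ^ 6) = true := by decide +kernel
theorem factP_blk313 : allRange factP 6 (313 * 2 ^ 6) = true := by decide +kernel
theorem factP_blk314 : allRange factP 6 (314 * 2 ^ 6) = true := by decide +kernel
theorem factP_blk315 : allRange factP 6 (315 * 2 ^ 6) = true := by decide +kernel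
theorem factP_blk316 : allRange factP 6 (316 * 2 ^ 6) = true := by decide +kernel
theorem factP_blk317 : allRange factP 6 (317 * 2 ^ 6) = true := by decide +kernel
theorem factP_blk318 : allRange factP 6 (318 * 2 ^ 6) = true := by decide +kernel
theorem factP_blk319 : allRange factP 6 (319 * 2 ^ 6) = true := by decide +kernel
theorem factP_blk320 : allRange factP 6 (320 * 2 ^ 6) = true := by decide +kernel
theorem factP_blk321 : allRange factP 6 (321 * 2 ^ 6) = true := by decide +kernel
theorem factP_blk322 : allRange factP 6 (322 * 2 ^ 6) = true := by decide +kernel
theorem factP_blk323 : allRange factP 6 (323 * 2 ^ 6) = true := by decide +kernel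
theorem factP_blk324 : allRange factP 6 (324 * 2 ^ 6) = true := by decide +kernel
theorem factP_blk325 : allRange factP 6 (325 * 2 ^ 6) = true := by decide +kernel
theorem factP_blk326 : allRange factP 6 (326 * 2 ^ 6) = true := by decide +kernel
theorem factP_blk327 : allRange factP 6 (327 * 2 ^ 6) = true := by decide +kernel
theorem factP_blk328 : allRange factP 6 (328 * 2 ^ 6) = true := by decide +kernel
theorem factP_blk329 : allRange factP 6 (329 * 2 ^ 6) = true := by decide +kernel
theorem factP_blk330 : allRange factP 6 (330 * 2 ^ 6) = true := by decide +kernel
theorem factP_blk331 : allRange factP 6 (331 * 2 ^ 6) = true := by decide +kernel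
theorem factP_blk332 : allRange factP 6 (332 * 2 ^ 6) = true := by decide +kernel
theorem factP_blk333 : allRange factP 6 (333 * 2 ^ 6) = true := by decide +kernel
theorem factP_blk334 : allRange factP 6 (334 * 2 ^ 6) = true := by decide +kernel
theorem factP_blk335 : allRange factP 6 (335 * 2 ^ 6) = true := by decide +kernel
theorem factP_blk336 : allRange factP 6 (336 * 2 ^ 6) = true := by decide +kernel
theorem factP_blk337 : allRange factP 6 (337 * 2 ^ 6) = true := by decide +kernel
theorem factP_blk338 : allRange factP 6 (338 * 2 ^ 6) = true := by decide +kernel
theorem factP_blk339 : allRange factP 6 (339 * 2 ^ 6) = true := by decide +kernel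
theorem factP_blk340 : allRange factP 6 (340 * 2 ^ 6) = true := by decide +kernel
theorem factP_blk341 : allRange factP 6 (341 * 2 ^ 6) = true := by decide +kernel
theorem factP_blk342 : allRange factP 6 (342 * 2 ^ 6) = true := by decide +kernel
theorem factP_blk343 : allRange factP 6 (343 * 2 ^ 6) = true := by decide +kernel
theorem factP_blk344 : allRange factP 6 (344 * 2 ^ 6) = true := by decide +kernel
theorem factP_blk345 : allRange factP 6 (345 * 2 ^ 6) = true := by decide +kernel
theorem factP_blk346 : allRange factP 6 (346 * 2 ^ 6) = true := by decide +kernel
theorem factP_blk347 : allRange factP 6 (347 * 2 ^ 6) = true := by decide +kernel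
theorem factP_blk348 : allRange factP 6 (348 * 2 ^ 6) = true := by decide +kernel
theorem factP_blk349 : allRange factP 6 (349 * 2 ^ 6) = true := by decide +kernel
theorem factP_blk350 : allRange factP 6 (350 * 2 ^ 6) = true := by decide +kernel
theorem factP_blk351 : allRange factP 6 (351 * 2 ^ 6) = true := by decide +kernel
theorem factP_blk352 : allRange factP 6 (352 * 2 ^ 6) = true := by decide +kernel
theorem factP_blk353 : allRange factP 6 (353 * 2 ^ 6) = true := by decide +kernel
theorem factP_blk354 : allRange factP 6 (354 * 2 ^ 6) = true := by decide +kernel
theorem factP_blk355 : allRange factP 6 (355 * 2 ^ 6) = true := by decide +kernel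
theorem factP_blk356 : allRange factP 6 (356 * 2 ^ 6) = true := by decide +kernel
theorem factP_blk357 : allRange factP 6 (357 * 2 ^ 6) = true := by decide +kernel
theorem factP_blk358 : allRange factP 6 (358 * 2 ^ 6) = true := by decide +kernel
theorem factP_blk359 : allRange factP 6 (359 * 2 ^ 6) = true := by decide +kernel
theorem factP_blk360 : allRange factP 6 (360 * 2 ^ 6) = true := by decide +kernel
theorem factP_blk361 : allRange factP 6 (361 * 2 ^ 6) = true := by decide +kernel
theorem factP_blk362 : allRange factP 6 (362 * 2 ^ 6) = true := by decide +kernel
theorem factP_blk363 : allRange factP 6 (363 * 2 ^ 6) = true := by decide +kernel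
theorem factP_blk364 : allRange factP 6 (364 * 2 ^ 6) = true := by decide +kernel
theorem factP_blk365 : allRange factP 6 (365 * 2 ^ 6) = true := by decide +kernel
theorem factP_blk366 : allRange factP 6 (366 * 2 ^ 6) = true := by decide +kernel
theorem factP_blk367 : allRange factP 6 (367 * 2 ^ 6) = true := by decide +kernel
theorem factP_blk368 : allRange factP 6 (368 * 2 ^ 6) = true := by decide +kernel
theorem factP_blk369 : allRange factP 6 (369 * 2 ^ 6) = true := by decide +kernel
theorem factP_blk370 : allRange factP 6 (370 * 2 ^ 6) = true := by decide +kernel
theorem factP_blk371 : allRange factP 6 (371 * 2 ^ 6) = true := by decide +kernel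
theorem factP_blk372 : allRange factP 6 (372 * 2 ^ 6) = true := by decide +kernel
theorem factP_blk373 : allRange factP 6 (373 * 2 ^ 6) = true := by decide +kernel
theorem factP_blk374 : allRange factP 6 (374 * 2 ^ 6) = true := by decide +kernel
theorem factP_blk375 : allRange factP 6 (375 * 2 ^ 6) = true := by decide +kernel
theorem factP_blk376 : allRange factP 6 (376 * 2 ^ 6) = true := by decide +kernel
theorem factP_blk377 : allRange factP 6 (377 * 2 ^ 6) = true := by decide +kernel
theorem factP_blk378 : allRange factP 6 (378 * 2 ^ 6) = true := by decide +kernel
theorem factP_blk379 : allRange factP 6 (379 * 2 ^ 6) = true := by decide +kernel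
theorem factP_blk380 : allRange factP 6 (380 * 2 ^ 6) = true := by decide +kernel
theorem factP_blk381 : allRange factP 6 (381 * 2 ^ 6) = true := by decide +kernel
theorem factP_blk382 : allRange factP 6 (382 * 2 ^ 6) = true := by decide +kernel
theorem factP_blk383 : allRange factP 6 (383 * 2 ^ 6) = true := by decide +kernel
theorem factP_f3 : ∀ k, 288 ≤ k → k < 384 → allRange factP 6 (k * 2 ^ 6) = true := by
  intro k h1 h2
  interval_cases k
  · exact factP_blk288
  · exact factP_blk289
  · exact factP_blk290
  · exact factP_blk291
  · exact factP_blk292
  · exact factP_blk293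
  · exact factP_blk294
  · exact factP_blk295
  · exact factP_blk296
  · exact factP_blk297
  · exact factP_blk298
  · exact factP_blk299
  · exact factP_blk300
  · exact factP_blk301
  · exact factP_blk302
  · exact factP_blk303
  · exact factP_blk304
  · exact factP_blk305
  · exact factP_blk306
  · exact factP_blk307
  · exact factP_blk308
  · exact factP_blk309
  · exact factP_blk310
  · exact factP_blk311
  · exact factP_blk312
  · exact factP_blk313
  · exact factP_blk314
  · exact factP_blk315
  · exact factP_blk316
  · exact factP_blk317
  · exact factP_blk318
  · exact factP_blk319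
  · exact factP_blk320
  · exact factP_blk321
  · exact factP_blk322
  · exact factP_blk323
  · exact factP_blk324
  · exact factP_blk325
  · exact factP_blk326
  · exact factP_blk327
  · exact factP_blk328
  · exact factP_blk329
  · exact factP_blk330
  · exact factP_blk331
  · exact factP_blk332
  · exact factP_blk333
  · exact factP_blk334
  · exact factP_blk335
  · exact factP_blk336
  · exact factP_blk337
  · exact factP_blk338
  · exact factP_blk339
  · exact factP_blk340
  · exact factP_blk341
  · exact factP_blk342
  · exact factP_blk343
  · exact factP_blk344
  · exact factP_blk345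
  · exact factP_blk346
  · exact factP_blk347
  · exact factP_blk348
  · exact factP_blk349
  · exact factP_blk350
  · exact factP_blk351
  · exact factP_blk352
  · exact factP_blk353
  · exact factP_blk354
  · exact factP_blk355
  · exact factP_blk356
  · exact factP_blk357
  · exact factP_blk358
  · exact factP_blk359
  · exact factP_blk360
  · exact factP_blk361
  · exact factP_blk362
  · exact factP_blk363
  · exact factP_blk364
  · exact factP_blk365
  · exact factP_blk366
  · exact factP_blk367
  · exact factP_blk368
  · exact factP_blk369
  · exact factP_blk370
  · exact factP_blk371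
  · exact factP_blk372
  · exact factP_blk373
  · exact factP_blk374
  · exact factP_blk375
  · exact factP_blk376
  · exact factP_blk377
  · exact factP_blk378
  · exact factP_blk379
  · exact factP_blk380
  · exact factP_blk381
  · exact factP_blk382
  · exact factP_blk383

end

end Cfsg.Agent.Lib.Helper28.Y555.C31671
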