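import Cfsg.Agent.Lib.Helper28.Y555.C31671.ChkDefs

set_option autoImplicit false
set_option linter.unusedVariables false
set_option Elab.async false

namespace Cfsg.Agent.Lib.Helper28.Y555.C31671

open Cfsg.Agent.Lib.Helper28.Y555Sub.P10 (Gen)
open Cfsg.Agent.Lib.Helper28.TC

noncomputable section

theorem factP_blk576 : allRange factP 6 (576 * 2 ^ 6) = true := by decide +kernel
theorem factP_blk577 : allRange factP 6 (577 * 2 ^ 6) = true := by decide +kernel
theorem factP_blk578 : allRange factP 6 (578 * 2 ^ 6) = true := by decide +kernel
theorem factP_blk579 : allRange factP 6 (579 * 2 ^ 6) = true := by decide +kernel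
theorem factP_blk580 : allRange factP 6 (580 * 2 ^ 6) = true := by decide +kernel
theorem factP_blk581 : allRange factP 6 (581 * 2 ^ 6) = true := by decide +kernel
theorem factP_blk582 : allRange factP 6 (582 * 2 ^ 6) = true := by decide +kernel
theorem factP_blk583 : allRange factP 6 (583 * 2 ^ 6) = true := by decide +kernel
theorem factP_blk584 : allRange factP 6 (584 * 2 ^ 6) = true := by decide +kernel
theorem factP_blk585 : allRange factP 6 (585 * 2 ^ 6) = true := by decide +kernel
theorem factP_blk586 : allRange factP 6 (586 * 2 ^ 6) = true := by decide +kernel
theorem factP_blk587 : allRange factP 6 (587 * 2 ^ 6) = true := by decide +kernel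
theorem factP_blk588 : allRange factP 6 (588 * 2 ^ 6) = true := by decide +kernel
theorem factP_blk589 : allRange factP 6 (589 * 2 ^ 6) = true := by decide +kernel
theorem factP_blk590 : allRange factP 6 (590 * 2 ^ 6) = true := by decide +kernel
theorem factP_blk591 : allRange factP 6 (591 * 2 ^ 6) = true := by decide +kernel
theorem factP_blk592 : allRange factP 6 (592 * 2 ^ 6) = true := by decide +kernel
theorem factP_blk593 : allRange factP 6 (593 * 2 ^ 6) = true := by decide +kernel
theorem factP_blk594 : allRange factP 6 (594 * 2 ^ 6) = true := by decide +kernel
theorem factP_blk595 : allRange factP 6 (595 * 2 ^ 6) = true := by decide +kernel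
theorem factP_blk596 : allRange factP 6 (596 * 2 ^ 6) = true := by decide +kernel
theorem factP_blk597 : allRange factP 6 (597 * 2 ^ 6) = true := by decide +kernel
theorem factP_blk598 : allRange factP 6 (598 * 2 ^ 6) = true := by decide +kernel
theorem factP_blk599 : allRange factP 6 (599 * 2 ^ 6) = true := by decide +kernel
theorem factP_blk600 : allRange factP 6 (600 * 2 ^ 6) = true := by decide +kernel
theorem factP_blk601 : allRange factP 6 (601 * 2 ^ 6) = true := by decide +kernel
theorem factP_blk602 : allRange factP 6 (602 * 2 ^ 6) = true := by decide +kernel
theorem factP_blk603 : allRange factP 6 (603 * 2 ^ 6) = true := by decide +kernel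
theorem factP_blk604 : allRange factP 6 (604 * 2 ^ 6) = true := by decide +kernel
theorem factP_blk605 : allRange factP 6 (605 * 2 ^ 6) = true := by decide +kernel
theorem factP_blk606 : allRange factP 6 (606 * 2 ^ 6) = true := by decide +kernel
theorem factP_blk607 : allRange factP 6 (607 * 2 ^ 6) = true := by decide +kernel
theorem factP_blk608 : allRange factP 6 (608 * 2 ^ 6) = true := by decide +kernel
theorem factP_blk609 : allRange factP 6 (609 * 2 ^ 6) = true := by decide +kernel
theorem factP_blk610 : allRange factP 6 (610 * 2 ^ 6) = true := by decide +kernel
theorem factP_blk611 : allRange factP 6 (611 * 2 ^ 6) = true := by decide +kernel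
theorem factP_blk612 : allRange factP 6 (612 * 2 ^ 6) = true := by decide +kernel
theorem factP_blk613 : allRange factP 6 (613 * 2 ^ 6) = true := by decide +kernel
theorem factP_blk614 : allRange factP 6 (614 * 2 ^ 6) = true := by decide +kernel
theorem factP_blk615 : allRange factP 6 (615 * 2 ^ 6) = true := by decide +kernel
theorem factP_blk616 : allRange factP 6 (616 * 2 ^ 6) = true := by decide +kernel
theorem factP_blk617 : allRange factP 6 (617 * 2 ^ 6) = true := by decide +kernel
theorem factP_blk618 : allRange factP 6 (618 * 2 ^ 6) = true := by decide +kernel
theorem factP_blk619 : allRange factP 6 (619 * 2 ^ 6) = true := by decide +kernel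
theorem factP_blk620 : allRange factP 6 (620 * 2 ^ 6) = true := by decide +kernel
theorem factP_blk621 : allRange factP 6 (621 * 2 ^ 6) = true := by decide +kernel
theorem factP_blk622 : allRange factP 6 (622 * 2 ^ 6) = true := by decide +kernel
theorem factP_blk623 : allRange factP 6 (623 * 2 ^ 6) = true := by decide +kernel
theorem factP_blk624 : allRange factP 6 (624 * 2 ^ 6) = true := by decide +kernel
theorem factP_blk625 : allRange factP 6 (625 * 2 ^ 6) = true := by decide +kernel
theorem factP_blk626 : allRange factP 6 (626 * 2 ^ 6) = true := by decide +kernel
theorem factP_blk627 : allRange factP 6 (627 * 2 ^ 6) = true := by decide +kernel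
theorem factP_blk628 : allRange factP 6 (628 * 2 ^ 6) = true := by decide +kernel
theorem factP_blk629 : allRange factP 6 (629 * 2 ^ 6) = true := by decide +kernel
theorem factP_blk630 : allRange factP 6 (630 * 2 ^ 6) = true := by decide +kernel
theorem factP_blk631 : allRange factP 6 (631 * 2 ^ 6) = true := by decide +kernel
theorem factP_blk632 : allRange factP 6 (632 * 2 ^ 6) = true := by decide +kernel
theorem factP_blk633 : allRange factP 6 (633 * 2 ^ 6) = true := by decide +kernel
theorem factP_blk634 : allRange factP 6 (634 * 2 ^ 6) = true := by decide +kernel
theorem factP_blk635 : allRange factP 6 (635 * 2 ^ 6) = true := by decide +kernel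
theorem factP_blk636 : allRange factP 6 (636 * 2 ^ 6) = true := by decide +kernel
theorem factP_blk637 : allRange factP 6 (637 * 2 ^ 6) = true := by decide +kernel
theorem factP_blk638 : allRange factP 6 (638 * 2 ^ 6) = true := by decide +kernel
theorem factP_blk639 : allRange factP 6 (639 * 2 ^ 6) = true := by decide +kernel
theorem factP_blk640 : allRange factP 6 (640 * 2 ^ 6) = true := by decide +kernel
theorem factP_blk641 : allRange factP 6 (641 * 2 ^ 6) = true := by decide +kernel
theorem factP_blk642 : allRange factP 6 (642 * 2 ^ 6) = true := by decide +kernel
theorem factP_blk643 : allRange factP 6 (643 * 2 ^ 6) = true := by decide +kernel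
theorem factP_blk644 : allRange factP 6 (644 * 2 ^ 6) = true := by decide +kernel
theorem factP_blk645 : allRange factP 6 (645 * 2 ^ 6) = true := by decide +kernel
theorem factP_blk646 : allRange factP 6 (646 * 2 ^ 6) = true := by decide +kernel
theorem factP_blk647 : allRange factP 6 (647 * 2 ^ 6) = true := by decide +kernel
theorem factP_blk648 : allRange factP 6 (648 * 2 ^ 6) = true := by decide +kernel
theorem factP_blk649 : allRange factP 6 (649 * 2 ^ 6) = true := by decide +kernel
theorem factP_blk650 : allRange factP 6 (650 * 2 ^ 6) = true := by decide +kernel
theorem factP_blk651 : allRange factP 6 (651 * 2 ^ 6) = true := by decide +kernel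
theorem factP_blk652 : allRange factP 6 (652 * 2 ^ 6) = true := by decide +kernel
theorem factP_blk653 : allRange factP 6 (653 * 2 ^ 6) = true := by decide +kernel
theorem factP_blk654 : allRange factP 6 (654 * 2 ^ 6) = true := by decide +kernel
theorem factP_blk655 : allRange factP 6 (655 * 2 ^ 6) = true := by decide +kernel
theorem factP_blk656 : allRange factP 6 (656 * 2 ^ 6) = true := by decide +kernel
theorem factP_blk657 : allRange factP 6 (657 * 2 ^ 6) = true := by decide +kernel
theorem factP_blk658 : allRange factP 6 (658 * 2 ^ 6) = true := by decide +kernel
theorem factP_blk659 : allRange factP 6 (659 * 2 ^ 6) = true := by decide +kernel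
theorem factP_blk660 : allRange factP 6 (660 * 2 ^ 6) = true := by decide +kernel
theorem factP_blk661 : allRange factP 6 (661 * 2 ^ 6) = true := by decide +kernel
theorem factP_blk662 : allRange factP 6 (662 * 2 ^ 6) = true := by decide +kernel
theorem factP_blk663 : allRange factP 6 (663 * 2 ^ 6) = true := by decide +kernel
theorem factP_blk664 : allRange factP 6 (664 * 2 ^ 6) = true := by decide +kernel
theorem factP_blk665 : allRange factP 6 (665 * 2 ^ 6) = true := by decide +kernel
theorem factP_blk666 : allRange factP 6 (666 * 2 ^ 6) = true := by decide +kernel
theorem factP_blk667 : allRange factP 6 (667 * 2 ^ 6) = true := by decide +kernel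
theorem factP_blk668 : allRange factP 6 (668 * 2 ^ 6) = true := by decide +kernel
theorem factP_blk669 : allRange factP 6 (669 * 2 ^ 6) = true := by decide +kernel
theorem factP_blk670 : allRange factP 6 (670 * 2 ^ 6) = true := by decide +kernel
theorem factP_blk671 : allRange factP 6 (671 * 2 ^ 6) = true := by decide +kernel
theorem factP_f6 : ∀ k, 576 ≤ k → k < 672 → allRange factP 6 (k * 2 ^ 6) = true := by
  intro k h1 h2
  interval_cases k
  · exact factP_blk576
  · exact factP_blk577
  · exact factP_blk578
  · exact factP_blk579
  · exact factP_blk580
  · exact factP_blk581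
  · exact factP_blk582
  · exact factP_blk583
  · exact factP_blk584
  · exact factP_blk585
  · exact factP_blk586
  · exact factP_blk587
  · exact factP_blk588
  · exact factP_blk589
  · exact factP_blk590
  · exact factP_blk591
  · exact factP_blk592
  · exact factP_blk593
  · exact factP_blk594
  · exact factP_blk595
  · exact factP_blk596
  · exact factP_blk597
  · exact factP_blk598
  · exact factP_blk599
  · exact factP_blk600
  · exact factP_blk601
  · exact factP_blk602
  · exact factP_blk603
  · exact factP_blk604
  · exact factP_blk605
  · exact factP_blk606
  · exact factP_blk607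
  · exact factP_blk608
  · exact factP_blk609
  · exact factP_blk610
  · exact factP_blk611
  · exact factP_blk612
  · exact factP_blk613
  · exact factP_blk614
  · exact factP_blk615
  · exact factP_blk616
  · exact factP_blk617
  · exact factP_blk618
  · exact factP_blk619
  · exact factP_blk620
  · exact factP_blk621
  · exact factP_blk622
  · exact factP_blk623
  · exact factP_blk624
  · exact factP_blk625
  · exact factP_blk626
  · exact factP_blk627
  · exact factP_blk628
  · exact factP_blk629
  · exact factP_blk630
  · exact factP_blk631
  · exact factP_blk632
  · exact factP_blk633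
  · exact factP_blk634
  · exact factP_blk635
  · exact factP_blk636
  · exact factP_blk637
  · exact factP_blk638
  · exact factP_blk639
  · exact factP_blk640
  · exact factP_blk641
  · exact factP_blk642
  · exact factP_blk643
  · exact factP_blk644
  · exact factP_blk645
  · exact factP_blk646
  · exact factP_blk647
  · exact factP_blk648
  · exact factP_blk649
  · exact factP_blk650
  · exact factP_blk651
  · exact factP_blk652
  · exact factP_blk653
  · exact factP_blk654
  · exact factP_blk655
  · exact factP_blk656
  · exact factP_blk657
  · exact factP_blk658
  · exact factP_blk659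
  · exact factP_blk660
  · exact factP_blk661
  · exact factP_blk662
  · exact factP_blk663
  · exact factP_blk664
  · exact factP_blk665
  · exact factP_blk666
  · exact factP_blk667
  · exact factP_blk668
  · exact factP_blk669
  · exact factP_blk670
  · exact factP_blk671

end

end Cfsg.Agent.Lib.Helper28.Y555.C31671
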