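import Cfsg.Agent.Lib.Helper28.Y555.C31671.ChkDefs

set_option autoImplicit false
set_option linter.unusedVariables false
set_option Elab.async false

namespace Cfsg.Agent.Lib.Helper28.Y555.C31671

open Cfsg.Agent.Lib.Helper28.Y555Sub.P10 (Gen)
open Cfsg.Agent.Lib.Helper28.TC

noncomputable section

theorem factP_blk672 : allRange factP 6 (672 * 2 ^ 6) = true := by decide +kernel
theorem factP_blk673 : allRange factP 6 (673 * 2 ^ 6) = true := by decide +kernel
theorem factP_blk674 : allRange factP 6 (674 * 2 ^ 6) = true := by decide +kernel
theorem factP_blk675 : allRange factP 6 (675 * 2 ^ 6) = true := by decide +kernel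
theorem factP_blk676 : allRange factP 6 (676 * 2 ^ 6) = true := by decide +kernel
theorem factP_blk677 : allRange factP 6 (677 * 2 ^ 6) = true := by decide +kernel
theorem factP_blk678 : allRange factP 6 (678 * 2 ^ 6) = true := by decide +kernel
theorem factP_blk679 : allRange factP 6 (679 * 2 ^ 6) = true := by decide +kernel
theorem factP_blk680 : allRange factP 6 (680 * 2 ^ 6) = true := by decide +kernel
theorem factP_blk681 : allRange factP 6 (681 * 2 ^ 6) = true := by decide +kernel
theorem factP_blk682 : allRange factP 6 (682 * 2 ^ 6) = true := by decide +kernel
theorem factP_blk683 : allRange factP 6 (683 * 2 ^ 6) = true := by decide +kernel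
theorem factP_blk684 : allRange factP 6 (684 * 2 ^ 6) = true := by decide +kernel
theorem factP_blk685 : allRange factP 6 (685 * 2 ^ 6) = true := by decide +kernel
theorem factP_blk686 : allRange factP 6 (686 * 2 ^ 6) = true := by decide +kernel
theorem factP_blk687 : allRange factP 6 (687 * 2 ^ 6) = true := by decide +kernel
theorem factP_blk688 : allRange factP 6 (688 * 2 ^ 6) = true := by decide +kernel
theorem factP_blk689 : allRange factP 6 (689 * 2 ^ 6) = true := by decide +kernel
theorem factP_blk690 : allRange factP 6 (690 * 2 ^ 6) = true := by decide +kernel
theorem factP_blk691 : allRange factP 6 (691 * 2 ^ 6) = true := by decide +kernel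
theorem factP_blk692 : allRange factP 6 (692 * 2 ^ 6) = true := by decide +kernel
theorem factP_blk693 : allRange factP 6 (693 * 2 ^ 6) = true := by decide +kernel
theorem factP_blk694 : allRange factP 6 (694 * 2 ^ 6) = true := by decide +kernel
theorem factP_blk695 : allRange factP 6 (695 * 2 ^ 6) = true := by decide +kernel
theorem factP_blk696 : allRange factP 6 (696 * 2 ^ 6) = true := by decide +kernel
theorem factP_blk697 : allRange factP 6 (697 * 2 ^ 6) = true := by decide +kernel
theorem factP_blk698 : allRange factP 6 (698 * 2 ^ 6) = true := by decide +kernel
theorem factP_blk699 : allRange factP 6 (699 * 2 ^ 6) = true := by decide +kernel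
theorem factP_blk700 : allRange factP 6 (700 * 2 ^ 6) = true := by decide +kernel
theorem factP_blk701 : allRange factP 6 (701 * 2 ^ 6) = true := by decide +kernel
theorem factP_blk702 : allRange factP 6 (702 * 2 ^ 6) = true := by decide +kernel
theorem factP_blk703 : allRange factP 6 (703 * 2 ^ 6) = true := by decide +kernel
theorem factP_blk704 : allRange factP 6 (704 * 2 ^ 6) = true := by decide +kernel
theorem factP_blk705 : allRange factP 6 (705 * 2 ^ 6) = true := by decide +kernel
theorem factP_blk706 : allRange factP 6 (706 * 2 ^ 6) = true := by decide +kernel
theorem factP_blk707 : allRange factP 6 (707 * 2 ^ 6) = true := by decide +kernel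
theorem factP_blk708 : allRange factP 6 (708 * 2 ^ 6) = true := by decide +kernel
theorem factP_blk709 : allRange factP 6 (709 * 2 ^ 6) = true := by decide +kernel
theorem factP_blk710 : allRange factP 6 (710 * 2 ^ 6) = true := by decide +kernel
theorem factP_blk711 : allRange factP 6 (711 * 2 ^ 6) = true := by decide +kernel
theorem factP_blk712 : allRange factP 6 (712 * 2 ^ 6) = true := by decide +kernel
theorem factP_blk713 : allRange factP 6 (713 * 2 ^ 6) = true := by decide +kernel
theorem factP_blk714 : allRange factP 6 (714 * 2 ^ 6) = true := by decide +kernel
theorem factP_blk715 : allRange factP 6 (715 * 2 ^ 6) = true := by decide +kernel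
theorem factP_blk716 : allRange factP 6 (716 * 2 ^ 6) = true := by decide +kernel
theorem factP_blk717 : allRange factP 6 (717 * 2 ^ 6) = true := by decide +kernel
theorem factP_blk718 : allRange factP 6 (718 * 2 ^ 6) = true := by decide +kernel
theorem factP_blk719 : allRange factP 6 (719 * 2 ^ 6) = true := by decide +kernel
theorem factP_blk720 : allRange factP 6 (720 * 2 ^ 6) = true := by decide +kernel
theorem factP_blk721 : allRange factP 6 (721 * 2 ^ 6) = true := by decide +kernel
theorem factP_blk722 : allRange factP 6 (722 * 2 ^ 6) = true := by decide +kernel
theorem factP_blk723 : allRange factP 6 (723 * 2 ^ 6) = true := by decide +kernel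
theorem factP_blk724 : allRange factP 6 (724 * 2 ^ 6) = true := by decide +kernel
theorem factP_blk725 : allRange factP 6 (725 * 2 ^ 6) = true := by decide +kernel
theorem factP_blk726 : allRange factP 6 (726 * 2 ^ 6) = true := by decide +kernel
theorem factP_blk727 : allRange factP 6 (727 * 2 ^ 6) = true := by decide +kernel
theorem factP_blk728 : allRange factP 6 (728 * 2 ^ 6) = true := by decide +kernel
theorem factP_blk729 : allRange factP 6 (729 * 2 ^ 6) = true := by decide +kernel
theorem factP_blk730 : allRange factP 6 (730 * 2 ^ 6) = true := by decide +kernel
theorem factP_blk731 : allRange factP 6 (731 * 2 ^ 6) = true := by decide +kernel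
theorem factP_blk732 : allRange factP 6 (732 * 2 ^ 6) = true := by decide +kernel
theorem factP_blk733 : allRange factP 6 (733 * 2 ^ 6) = true := by decide +kernel
theorem factP_blk734 : allRange factP 6 (734 * 2 ^ 6) = true := by decide +kernel
theorem factP_blk735 : allRange factP 6 (735 * 2 ^ 6) = true := by decide +kernel
theorem factP_blk736 : allRange factP 6 (736 * 2 ^ 6) = true := by decide +kernel
theorem factP_blk737 : allRange factP 6 (737 * 2 ^ 6) = true := by decide +kernel
theorem factP_blk738 : allRange factP 6 (738 * 2 ^ 6) = true := by decide +kernel
theorem factP_blk739 : allRange factP 6 (739 * 2 ^ 6) = true := by decide +kernel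
theorem factP_blk740 : allRange factP 6 (740 * 2 ^ 6) = true := by decide +kernel
theorem factP_blk741 : allRange factP 6 (741 * 2 ^ 6) = true := by decide +kernel
theorem factP_blk742 : allRange factP 6 (742 * 2 ^ 6) = true := by decide +kernel
theorem factP_blk743 : allRange factP 6 (743 * 2 ^ 6) = true := by decide +kernel
theorem factP_blk744 : allRange factP 6 (744 * 2 ^ 6) = true := by decide +kernel
theorem factP_blk745 : allRange factP 6 (745 * 2 ^ 6) = true := by decide +kernel
theorem factP_blk746 : allRange factP 6 (746 * 2 ^ 6) = true := by decide +kernel
theorem factP_blk747 : allRange factP 6 (747 * 2 ^ 6) = true := by decide +kernel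
theorem factP_blk748 : allRange factP 6 (748 * 2 ^ 6) = true := by decide +kernel
theorem factP_blk749 : allRange factP 6 (749 * 2 ^ 6) = true := by decide +kernel
theorem factP_blk750 : allRange factP 6 (750 * 2 ^ 6) = true := by decide +kernel
theorem factP_blk751 : allRange factP 6 (751 * 2 ^ 6) = true := by decide +kernel
theorem factP_blk752 : allRange factP 6 (752 * 2 ^ 6) = true := by decide +kernel
theorem factP_blk753 : allRange factP 6 (753 * 2 ^ 6) = true := by decide +kernel
theorem factP_blk754 : allRange factP 6 (754 * 2 ^ 6) = true := by decide +kernel
theorem factP_blk755 : allRange factP 6 (755 * 2 ^ 6) = true := by decide +kernel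
theorem factP_blk756 : allRange factP 6 (756 * 2 ^ 6) = true := by decide +kernel
theorem factP_blk757 : allRange factP 6 (757 * 2 ^ 6) = true := by decide +kernel
theorem factP_blk758 : allRange factP 6 (758 * 2 ^ 6) = true := by decide +kernel
theorem factP_blk759 : allRange factP 6 (759 * 2 ^ 6) = true := by decide +kernel
theorem factP_blk760 : allRange factP 6 (760 * 2 ^ 6) = true := by decide +kernel
theorem factP_blk761 : allRange factP 6 (761 * 2 ^ 6) = true := by decide +kernel
theorem factP_blk762 : allRange factP 6 (762 * 2 ^ 6) = true := by decide +kernel
theorem factP_blk763 : allRange factP 6 (763 * 2 ^ 6) = true := by decide +kernel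
theorem factP_blk764 : allRange factP 6 (764 * 2 ^ 6) = true := by decide +kernel
theorem factP_blk765 : allRange factP 6 (765 * 2 ^ 6) = true := by decide +kernel
theorem factP_blk766 : allRange factP 6 (766 * 2 ^ 6) = true := by decide +kernel
theorem factP_blk767 : allRange factP 6 (767 * 2 ^ 6) = true := by decide +kernel
theorem factP_f7 : ∀ k, 672 ≤ k → k < 768 → allRange factP 6 (k * 2 ^ 6) = true := by
  intro k h1 h2
  interval_cases k
  · exact factP_blk672
  · exact factP_blk673
  · exact factP_blk674
  · exact factP_blk675
  · exact factP_blk676
  · exact factP_blk677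
  · exact factP_blk678
  · exact factP_blk679
  · exact factP_blk680
  · exact factP_blk681
  · exact factP_blk682
  · exact factP_blk683
  · exact factP_blk684
  · exact factP_blk685
  · exact factP_blk686
  · exact factP_blk687
  · exact factP_blk688
  · exact factP_blk689
  · exact factP_blk690
  · exact factP_blk691
  · exact factP_blk692
  · exact factP_blk693
  · exact factP_blk694
  · exact factP_blk695
  · exact factP_blk696
  · exact factP_blk697
  · exact factP_blk698
  · exact factP_blk699
  · exact factP_blk700
  · exact factP_blk701
  · exact factP_blk702
  · exact factP_blk703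
  · exact factP_blk704
  · exact factP_blk705
  · exact factP_blk706
  · exact factP_blk707
  · exact factP_blk708
  · exact factP_blk709
  · exact factP_blk710
  · exact factP_blk711
  · exact factP_blk712
  · exact factP_blk713
  · exact factP_blk714
  · exact factP_blk715
  · exact factP_blk716
  · exact factP_blk717
  · exact factP_blk718
  · exact factP_blk719
  · exact factP_blk720
  · exact factP_blk721
  · exact factP_blk722
  · exact factP_blk723
  · exact factP_blk724
  · exact factP_blk725
  · exact factP_blk726
  · exact factP_blk727
  · exact factP_blk728
  · exact factP_blk729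
  · exact factP_blk730
  · exact factP_blk731
  · exact factP_blk732
  · exact factP_blk733
  · exact factP_blk734
  · exact factP_blk735
  · exact factP_blk736
  · exact factP_blk737
  · exact factP_blk738
  · exact factP_blk739
  · exact factP_blk740
  · exact factP_blk741
  · exact factP_blk742
  · exact factP_blk743
  · exact factP_blk744
  · exact factP_blk745
  · exact factP_blk746
  · exact factP_blk747
  · exact factP_blk748
  · exact factP_blk749
  · exact factP_blk750
  · exact factP_blk751
  · exact factP_blk752
  · exact factP_blk753
  · exact factP_blk754
  · exact factP_blk755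
  · exact factP_blk756
  · exact factP_blk757
  · exact factP_blk758
  · exact factP_blk759
  · exact factP_blk760
  · exact factP_blk761
  · exact factP_blk762
  · exact factP_blk763
  · exact factP_blk764
  · exact factP_blk765
  · exact factP_blk766
  · exact factP_blk767

end

end Cfsg.Agent.Lib.Helper28.Y555.C31671
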