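import Cfsg.Agent.Lib.Helper28.Y555.C31671.ChkDefs

set_option autoImplicit false
set_option linter.unusedVariables false
set_option Elab.async false

namespace Cfsg.Agent.Lib.Helper28.Y555.C31671

open Cfsg.Agent.Lib.Helper28.Y555Sub.P10 (Gen)
open Cfsg.Agent.Lib.Helper28.TC

noncomputable section

theorem factP_blk768 : allRange factP 6 (768 * 2 ^ 6) = true := by decide +kernel
theorem factP_blk769 : allRange factP 6 (769 * 2 ^ 6) = true := by decide +kernel
theorem factP_blk770 : allRange factP 6 (770 * 2 ^ 6) = true := by decide +kernel
theorem factP_blk771 : allRange factP 6 (771 * 2 ^ 6) = true := by decide +kernel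
theorem factP_blk772 : allRange factP 6 (772 * 2 ^ 6) = true := by decide +kernel
theorem factP_blk773 : allRange factP 6 (773 * 2 ^ 6) = true := by decide +kernel
theorem factP_blk774 : allRange factP 6 (774 * 2 ^ 6) = true := by decide +kernel
theorem factP_blk775 : allRange factP 6 (775 * 2 ^ 6) = true := by decide +kernel
theorem factP_blk776 : allRange factP 6 (776 * 2 ^ 6) = true := by decide +kernel
theorem factP_blk777 : allRange factP 6 (777 * 2 ^ 6) = true := by decide +kernel
theorem factP_blk778 : allRange factP 6 (778 * 2 ^ 6) = true := by decide +kernel
theorem factP_blk779 : allRange factP 6 (779 * 2 ^ 6) = true := by decide +kernel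
theorem factP_blk780 : allRange factP 6 (780 * 2 ^ 6) = true := by decide +kernel
theorem factP_blk781 : allRange factP 6 (781 * 2 ^ 6) = true := by decide +kernel
theorem factP_blk782 : allRange factP 6 (782 * 2 ^ 6) = true := by decide +kernel
theorem factP_blk783 : allRange factP 6 (783 * 2 ^ 6) = true := by decide +kernel
theorem factP_blk784 : allRange factP 6 (784 * 2 ^ 6) = true := by decide +kernel
theorem factP_blk785 : allRange factP 6 (785 * 2 ^ 6) = true := by decide +kernel
theorem factP_blk786 : allRange factP 6 (786 * 2 ^ 6) = true := by decide +kernel
theorem factP_blk787 : allRange factP 6 (787 * 2 ^ 6) = true := by decide +kernel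
theorem factP_blk788 : allRange factP 6 (788 * 2 ^ 6) = true := by decide +kernel
theorem factP_blk789 : allRange factP 6 (789 * 2 ^ 6) = true := by decide +kernel
theorem factP_blk790 : allRange factP 6 (790 * 2 ^ 6) = true := by decide +kernel
theorem factP_blk791 : allRange factP 6 (791 * 2 ^ 6) = true := by decide +kernel
theorem factP_blk792 : allRange factP 6 (792 * 2 ^ 6) = true := by decide +kernel
theorem factP_blk793 : allRange factP 6 (793 * 2 ^ 6) = true := by decide +kernel
theorem factP_blk794 : allRange factP 6 (794 * 2 ^ 6) = true := by decide +kernel
theorem factP_blk795 : allRange factP 6 (795 * 2 ^ 6) = true := by decide +kernel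
theorem factP_blk796 : allRange factP 6 (796 * 2 ^ 6) = true := by decide +kernel
theorem factP_blk797 : allRange factP 6 (797 * 2 ^ 6) = true := by decide +kernel
theorem factP_blk798 : allRange factP 6 (798 * 2 ^ 6) = true := by decide +kernel
theorem factP_blk799 : allRange factP 6 (799 * 2 ^ 6) = true := by decide +kernel
theorem factP_blk800 : allRange factP 6 (800 * 2 ^ 6) = true := by decide +kernel
theorem factP_blk801 : allRange factP 6 (801 * 2 ^ 6) = true := by decide +kernel
theorem factP_blk802 : allRange factP 6 (802 * 2 ^ 6) = true := by decide +kernel
theorem factP_blk803 : allRange factP 6 (803 * 2 ^ 6) = true := by decide +kernel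
theorem factP_blk804 : allRange factP 6 (804 * 2 ^ 6) = true := by decide +kernel
theorem factP_blk805 : allRange factP 6 (805 * 2 ^ 6) = true := by decide +kernel
theorem factP_blk806 : allRange factP 6 (806 * 2 ^ 6) = true := by decide +kernel
theorem factP_blk807 : allRange factP 6 (807 * 2 ^ 6) = true := by decide +kernel
theorem factP_blk808 : allRange factP 6 (808 * 2 ^ 6) = true := by decide +kernel
theorem factP_blk809 : allRange factP 6 (809 * 2 ^ 6) = true := by decide +kernel
theorem factP_blk810 : allRange factP 6 (810 * 2 ^ 6) = true := by decide +kernel
theorem factP_blk811 : allRange factP 6 (811 * 2 ^ 6) = true := by decide +kernel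
theorem factP_blk812 : allRange factP 6 (812 * 2 ^ 6) = true := by decide +kernel
theorem factP_blk813 : allRange factP 6 (813 * 2 ^ 6) = true := by decide +kernel
theorem factP_blk814 : allRange factP 6 (814 * 2 ^ 6) = true := by decide +kernel
theorem factP_blk815 : allRange factP 6 (815 * 2 ^ 6) = true := by decide +kernel
theorem factP_blk816 : allRange factP 6 (816 * 2 ^ 6) = true := by decide +kernel
theorem factP_blk817 : allRange factP 6 (817 * 2 ^ 6) = true := by decide +kernel
theorem factP_blk818 : allRange factP 6 (818 * 2 ^ 6) = true := by decide +kernel
theorem factP_blk819 : allRange factP 6 (819 * 2 ^ 6) = true := by decide +kernel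
theorem factP_blk820 : allRange factP 6 (820 * 2 ^ 6) = true := by decide +kernel
theorem factP_blk821 : allRange factP 6 (821 * 2 ^ 6) = true := by decide +kernel
theorem factP_blk822 : allRange factP 6 (822 * 2 ^ 6) = true := by decide +kernel
theorem factP_blk823 : allRange factP 6 (823 * 2 ^ 6) = true := by decide +kernel
theorem factP_blk824 : allRange factP 6 (824 * 2 ^ 6) = true := by decide +kernel
theorem factP_blk825 : allRange factP 6 (825 * 2 ^ 6) = true := by decide +kernel
theorem factP_blk826 : allRange factP 6 (826 * 2 ^ 6) = true := by decide +kernel
theorem factP_blk827 : allRange factP 6 (827 * 2 ^ 6) = true := by decide +kernel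
theorem factP_blk828 : allRange factP 6 (828 * 2 ^ 6) = true := by decide +kernel
theorem factP_blk829 : allRange factP 6 (829 * 2 ^ 6) = true := by decide +kernel
theorem factP_blk830 : allRange factP 6 (830 * 2 ^ 6) = true := by decide +kernel
theorem factP_blk831 : allRange factP 6 (831 * 2 ^ 6) = true := by decide +kernel
theorem factP_blk832 : allRange factP 6 (832 * 2 ^ 6) = true := by decide +kernel
theorem factP_blk833 : allRange factP 6 (833 * 2 ^ 6) = true := by decide +kernel
theorem factP_blk834 : allRange factP 6 (834 * 2 ^ 6) = true := by decide +kernel
theorem factP_blk835 : allRange factP 6 (835 * 2 ^ 6) = true := by decide +kernel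
theorem factP_blk836 : allRange factP 6 (836 * 2 ^ 6) = true := by decide +kernel
theorem factP_blk837 : allRange factP 6 (837 * 2 ^ 6) = true := by decide +kernel
theorem factP_blk838 : allRange factP 6 (838 * 2 ^ 6) = true := by decide +kernel
theorem factP_blk839 : allRange factP 6 (839 * 2 ^ 6) = true := by decide +kernel
theorem factP_blk840 : allRange factP 6 (840 * 2 ^ 6) = true := by decide +kernel
theorem factP_blk841 : allRange factP 6 (841 * 2 ^ 6) = true := by decide +kernel
theorem factP_blk842 : allRange factP 6 (842 * 2 ^ 6) = true := by decide +kernel
theorem factP_blk843 : allRange factP 6 (843 * 2 ^ 6) = true := by decide +kernel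
theorem factP_blk844 : allRange factP 6 (844 * 2 ^ 6) = true := by decide +kernel
theorem factP_blk845 : allRange factP 6 (845 * 2 ^ 6) = true := by decide +kernel
theorem factP_blk846 : allRange factP 6 (846 * 2 ^ 6) = true := by decide +kernel
theorem factP_blk847 : allRange factP 6 (847 * 2 ^ 6) = true := by decide +kernel
theorem factP_blk848 : allRange factP 6 (848 * 2 ^ 6) = true := by decide +kernel
theorem factP_blk849 : allRange factP 6 (849 * 2 ^ 6) = true := by decide +kernel
theorem factP_blk850 : allRange factP 6 (850 * 2 ^ 6) = true := by decide +kernel
theorem factP_blk851 : allRange factP 6 (851 * 2 ^ 6) = true := by decide +kernel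
theorem factP_blk852 : allRange factP 6 (852 * 2 ^ 6) = true := by decide +kernel
theorem factP_blk853 : allRange factP 6 (853 * 2 ^ 6) = true := by decide +kernel
theorem factP_blk854 : allRange factP 6 (854 * 2 ^ 6) = true := by decide +kernel
theorem factP_blk855 : allRange factP 6 (855 * 2 ^ 6) = true := by decide +kernel
theorem factP_blk856 : allRange factP 6 (856 * 2 ^ 6) = true := by decide +kernel
theorem factP_blk857 : allRange factP 6 (857 * 2 ^ 6) = true := by decide +kernel
theorem factP_blk858 : allRange factP 6 (858 * 2 ^ 6) = true := by decide +kernel
theorem factP_blk859 : allRange factP 6 (859 * 2 ^ 6) = true := by decide +kernel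
theorem factP_blk860 : allRange factP 6 (860 * 2 ^ 6) = true := by decide +kernel
theorem factP_blk861 : allRange factP 6 (861 * 2 ^ 6) = true := by decide +kernel
theorem factP_blk862 : allRange factP 6 (862 * 2 ^ 6) = true := by decide +kernel
theorem factP_blk863 : allRange factP 6 (863 * 2 ^ 6) = true := by decide +kernel
theorem factP_f8 : ∀ k, 768 ≤ k → k < 864 → allRange factP 6 (k * 2 ^ 6) = true := by
  intro k h1 h2
  interval_cases k
  · exact factP_blk768
  · exact factP_blk769
  · exact factP_blk770
  · exact factP_blk771
  · exact factP_blk772
  · exact factP_blk773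
  · exact factP_blk774
  · exact factP_blk775
  · exact factP_blk776
  · exact factP_blk777
  · exact factP_blk778
  · exact factP_blk779
  · exact factP_blk780
  · exact factP_blk781
  · exact factP_blk782
  · exact factP_blk783
  · exact factP_blk784
  · exact factP_blk785
  · exact factP_blk786
  · exact factP_blk787
  · exact factP_blk788
  · exact factP_blk789
  · exact factP_blk790
  · exact factP_blk791
  · exact factP_blk792
  · exact factP_blk793
  · exact factP_blk794
  · exact factP_blk795
  · exact factP_blk796
  · exact factP_blk797
  · exact factP_blk798
  · exact factP_blk799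
  · exact factP_blk800
  · exact factP_blk801
  · exact factP_blk802
  · exact factP_blk803
  · exact factP_blk804
  · exact factP_blk805
  · exact factP_blk806
  · exact factP_blk807
  · exact factP_blk808
  · exact factP_blk809
  · exact factP_blk810
  · exact factP_blk811
  · exact factP_blk812
  · exact factP_blk813
  · exact factP_blk814
  · exact factP_blk815
  · exact factP_blk816
  · exact factP_blk817
  · exact factP_blk818
  · exact factP_blk819
  · exact factP_blk820
  · exact factP_blk821
  · exact factP_blk822
  · exact factP_blk823
  · exact factP_blk824
  · exact factP_blk825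
  · exact factP_blk826
  · exact factP_blk827
  · exact factP_blk828
  · exact factP_blk829
  · exact factP_blk830
  · exact factP_blk831
  · exact factP_blk832
  · exact factP_blk833
  · exact factP_blk834
  · exact factP_blk835
  · exact factP_blk836
  · exact factP_blk837
  · exact factP_blk838
  · exact factP_blk839
  · exact factP_blk840
  · exact factP_blk841
  · exact factP_blk842
  · exact factP_blk843
  · exact factP_blk844
  · exact factP_blk845
  · exact factP_blk846
  · exact factP_blk847
  · exact factP_blk848
  · exact factP_blk849
  · exact factP_blk850
  · exact factP_blk851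
  · exact factP_blk852
  · exact factP_blk853
  · exact factP_blk854
  · exact factP_blk855
  · exact factP_blk856
  · exact factP_blk857
  · exact factP_blk858
  · exact factP_blk859
  · exact factP_blk860
  · exact factP_blk861
  · exact factP_blk862
  · exact factP_blk863

end

end Cfsg.Agent.Lib.Helper28.Y555.C31671
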