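import Cfsg.Agent.Lib.Helper28.Y555.C31671.ChkDefs

set_option autoImplicit false
set_option linter.unusedVariables false
set_option Elab.async false

namespace Cfsg.Agent.Lib.Helper28.Y555.C31671

open Cfsg.Agent.Lib.Helper28.Y555Sub.P10 (Gen)
open Cfsg.Agent.Lib.Helper28.TC

noncomputable section

theorem factP_blk864 : allRange factP 6 (864 * 2 ^ 6) = true := by decide +kernel
theorem factP_blk865 : allRange factP 6 (865 * 2 ^ 6) = true := by decide +kernel
theorem factP_blk866 : allRange factP 6 (866 * 2 ^ 6) = true := by decide +kernel
theorem factP_blk867 : allRange factP 6 (867 * 2 ^ 6) = true := by decide +kernel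
theorem factP_blk868 : allRange factP 6 (868 * 2 ^ 6) = true := by decide +kernel
theorem factP_blk869 : allRange factP 6 (869 * 2 ^ 6) = true := by decide +kernel
theorem factP_blk870 : allRange factP 6 (870 * 2 ^ 6) = true := by decide +kernel
theorem factP_blk871 : allRange factP 6 (871 * 2 ^ 6) = true := by decide +kernel
theorem factP_blk872 : allRange factP 6 (872 * 2 ^ 6) = true := by decide +kernel
theorem factP_blk873 : allRange factP 6 (873 * 2 ^ 6) = true := by decide +kernel
theorem factP_blk874 : allRange factP 6 (874 * 2 ^ 6) = true := by decide +kernel
theorem factP_blk875 : allRange factP 6 (875 * 2 ^ 6) = true := by decide +kernel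
theorem factP_blk876 : allRange factP 6 (876 * 2 ^ 6) = true := by decide +kernel
theorem factP_blk877 : allRange factP 6 (877 * 2 ^ 6) = true := by decide +kernel
theorem factP_blk878 : allRange factP 6 (878 * 2 ^ 6) = true := by decide +kernel
theorem factP_blk879 : allRange factP 6 (879 * 2 ^ 6) = true := by decide +kernel
theorem factP_blk880 : allRange factP 6 (880 * 2 ^ 6) = true := by decide +kernel
theorem factP_blk881 : allRange factP 6 (881 * 2 ^ 6) = true := by decide +kernel
theorem factP_blk882 : allRange factP 6 (882 * 2 ^ 6) = true := by decide +kernel
theorem factP_blk883 : allRange factP 6 (883 * 2 ^ 6) = true := by decide +kernel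
theorem factP_blk884 : allRange factP 6 (884 * 2 ^ 6) = true := by decide +kernel
theorem factP_blk885 : allRange factP 6 (885 * 2 ^ 6) = true := by decide +kernel
theorem factP_blk886 : allRange factP 6 (886 * 2 ^ 6) = true := by decide +kernel
theorem factP_blk887 : allRange factP 6 (887 * 2 ^ 6) = true := by decide +kernel
theorem factP_blk888 : allRange factP 6 (888 * 2 ^ 6) = true := by decide +kernel
theorem factP_blk889 : allRange factP 6 (889 * 2 ^ 6) = true := by decide +kernel
theorem factP_blk890 : allRange factP 6 (890 * 2 ^ 6) = true := by decide +kernel
theorem factP_blk891 : allRange factP 6 (891 * 2 ^ 6) = true := by decide +kernel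
theorem factP_blk892 : allRange factP 6 (892 * 2 ^ 6) = true := by decide +kernel
theorem factP_blk893 : allRange factP 6 (893 * 2 ^ 6) = true := by decide +kernel
theorem factP_blk894 : allRange factP 6 (894 * 2 ^ 6) = true := by decide +kernel
theorem factP_blk895 : allRange factP 6 (895 * 2 ^ 6) = true := by decide +kernel
theorem factP_blk896 : allRange factP 6 (896 * 2 ^ 6) = true := by decide +kernel
theorem factP_blk897 : allRange factP 6 (897 * 2 ^ 6) = true := by decide +kernel
theorem factP_blk898 : allRange factP 6 (898 * 2 ^ 6) = true := by decide +kernel
theorem factP_blk899 : allRange factP 6 (899 * 2 ^ 6) = true := by decide +kernel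
theorem factP_blk900 : allRange factP 6 (900 * 2 ^ 6) = true := by decide +kernel
theorem factP_blk901 : allRange factP 6 (901 * 2 ^ 6) = true := by decide +kernel
theorem factP_blk902 : allRange factP 6 (902 * 2 ^ 6) = true := by decide +kernel
theorem factP_blk903 : allRange factP 6 (903 * 2 ^ 6) = true := by decide +kernel
theorem factP_blk904 : allRange factP 6 (904 * 2 ^ 6) = true := by decide +kernel
theorem factP_blk905 : allRange factP 6 (905 * 2 ^ 6) = true := by decide +kernel
theorem factP_blk906 : allRange factP 6 (906 * 2 ^ 6) = true := by decide +kernel
theorem factP_blk907 : allRange factP 6 (907 * 2 ^ 6) = true := by decide +kernel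
theorem factP_blk908 : allRange factP 6 (908 * 2 ^ 6) = true := by decide +kernel
theorem factP_blk909 : allRange factP 6 (909 * 2 ^ 6) = true := by decide +kernel
theorem factP_blk910 : allRange factP 6 (910 * 2 ^ 6) = true := by decide +kernel
theorem factP_blk911 : allRange factP 6 (911 * 2 ^ 6) = true := by decide +kernel
theorem factP_blk912 : allRange factP 6 (912 * 2 ^ 6) = true := by decide +kernel
theorem factP_blk913 : allRange factP 6 (913 * 2 ^ 6) = true := by decide +kernel
theorem factP_blk914 : allRange factP 6 (914 * 2 ^ 6) = true := by decide +kernel
theorem factP_blk915 : allRange factP 6 (915 * 2 ^ 6) = true := by decide +kernel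
theorem factP_blk916 : allRange factP 6 (916 * 2 ^ 6) = true := by decide +kernel
theorem factP_blk917 : allRange factP 6 (917 * 2 ^ 6) = true := by decide +kernel
theorem factP_blk918 : allRange factP 6 (918 * 2 ^ 6) = true := by decide +kernel
theorem factP_blk919 : allRange factP 6 (919 * 2 ^ 6) = true := by decide +kernel
theorem factP_blk920 : allRange factP 6 (920 * 2 ^ 6) = true := by decide +kernel
theorem factP_blk921 : allRange factP 6 (921 * 2 ^ 6) = true := by decide +kernel
theorem factP_blk922 : allRange factP 6 (922 * 2 ^ 6) = true := by decide +kernel
theorem factP_blk923 : allRange factP 6 (923 * 2 ^ 6) = true := by decide +kernel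
theorem factP_blk924 : allRange factP 6 (924 * 2 ^ 6) = true := by decide +kernel
theorem factP_blk925 : allRange factP 6 (925 * 2 ^ 6) = true := by decide +kernel
theorem factP_blk926 : allRange factP 6 (926 * 2 ^ 6) = true := by decide +kernel
theorem factP_blk927 : allRange factP 6 (927 * 2 ^ 6) = true := by decide +kernel
theorem factP_blk928 : allRange factP 6 (928 * 2 ^ 6) = true := by decide +kernel
theorem factP_blk929 : allRange factP 6 (929 * 2 ^ 6) = true := by decide +kernel
theorem factP_blk930 : allRange factP 6 (930 * 2 ^ 6) = true := by decide +kernel
theorem factP_blk931 : allRange factP 6 (931 * 2 ^ 6) = true := by decide +kernel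
theorem factP_blk932 : allRange factP 6 (932 * 2 ^ 6) = true := by decide +kernel
theorem factP_blk933 : allRange factP 6 (933 * 2 ^ 6) = true := by decide +kernel
theorem factP_blk934 : allRange factP 6 (934 * 2 ^ 6) = true := by decide +kernel
theorem factP_blk935 : allRange factP 6 (935 * 2 ^ 6) = true := by decide +kernel
theorem factP_blk936 : allRange factP 6 (936 * 2 ^ 6) = true := by decide +kernel
theorem factP_blk937 : allRange factP 6 (937 * 2 ^ 6) = true := by decide +kernel
theorem factP_blk938 : allRange factP 6 (938 * 2 ^ 6) = true := by decide +kernel
theorem factP_blk939 : allRange factP 6 (939 * 2 ^ 6) = true := by decide +kernel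
theorem factP_blk940 : allRange factP 6 (940 * 2 ^ 6) = true := by decide +kernel
theorem factP_blk941 : allRange factP 6 (941 * 2 ^ 6) = true := by decide +kernel
theorem factP_blk942 : allRange factP 6 (942 * 2 ^ 6) = true := by decide +kernel
theorem factP_blk943 : allRange factP 6 (943 * 2 ^ 6) = true := by decide +kernel
theorem factP_blk944 : allRange factP 6 (944 * 2 ^ 6) = true := by decide +kernel
theorem factP_blk945 : allRange factP 6 (945 * 2 ^ 6) = true := by decide +kernel
theorem factP_blk946 : allRange factP 6 (946 * 2 ^ 6) = true := by decide +kernel
theorem factP_blk947 : allRange factP 6 (947 * 2 ^ 6) = true := by decide +kernel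
theorem factP_blk948 : allRange factP 6 (948 * 2 ^ 6) = true := by decide +kernel
theorem factP_blk949 : allRange factP 6 (949 * 2 ^ 6) = true := by decide +kernel
theorem factP_blk950 : allRange factP 6 (950 * 2 ^ 6) = true := by decide +kernel
theorem factP_blk951 : allRange factP 6 (951 * 2 ^ 6) = true := by decide +kernel
theorem factP_blk952 : allRange factP 6 (952 * 2 ^ 6) = true := by decide +kernel
theorem factP_blk953 : allRange factP 6 (953 * 2 ^ 6) = true := by decide +kernel
theorem factP_blk954 : allRange factP 6 (954 * 2 ^ 6) = true := by decide +kernel
theorem factP_blk955 : allRange factP 6 (955 * 2 ^ 6) = true := by decide +kernel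
theorem factP_blk956 : allRange factP 6 (956 * 2 ^ 6) = true := by decide +kernel
theorem factP_blk957 : allRange factP 6 (957 * 2 ^ 6) = true := by decide +kernel
theorem factP_blk958 : allRange factP 6 (958 * 2 ^ 6) = true := by decide +kernel
theorem factP_blk959 : allRange factP 6 (959 * 2 ^ 6) = true := by decide +kernel
theorem factP_f9 : ∀ k, 864 ≤ k → k < 960 → allRange factP 6 (k * 2 ^ 6) = true := by
  intro k h1 h2
  interval_cases k
  · exact factP_blk864
  · exact factP_blk865
  · exact factP_blk866
  · exact factP_blk867
  · exact factP_blk868
  · exact factP_blk869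
  · exact factP_blk870
  · exact factP_blk871
  · exact factP_blk872
  · exact factP_blk873
  · exact factP_blk874
  · exact factP_blk875
  · exact factP_blk876
  · exact factP_blk877
  · exact factP_blk878
  · exact factP_blk879
  · exact factP_blk880
  · exact factP_blk881
  · exact factP_blk882
  · exact factP_blk883
  · exact factP_blk884
  · exact factP_blk885
  · exact factP_blk886
  · exact factP_blk887
  · exact factP_blk888
  · exact factP_blk889
  · exact factP_blk890
  · exact factP_blk891
  · exact factP_blk892
  · exact factP_blk893
  · exact factP_blk894
  · exact factP_blk895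
  · exact factP_blk896
  · exact factP_blk897
  · exact factP_blk898
  · exact factP_blk899
  · exact factP_blk900
  · exact factP_blk901
  · exact factP_blk902
  · exact factP_blk903
  · exact factP_blk904
  · exact factP_blk905
  · exact factP_blk906
  · exact factP_blk907
  · exact factP_blk908
  · exact factP_blk909
  · exact factP_blk910
  · exact factP_blk911
  · exact factP_blk912
  · exact factP_blk913
  · exact factP_blk914
  · exact factP_blk915
  · exact factP_blk916
  · exact factP_blk917
  · exact factP_blk918
  · exact factP_blk919
  · exact factP_blk920
  · exact factP_blk921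
  · exact factP_blk922
  · exact factP_blk923
  · exact factP_blk924
  · exact factP_blk925
  · exact factP_blk926
  · exact factP_blk927
  · exact factP_blk928
  · exact factP_blk929
  · exact factP_blk930
  · exact factP_blk931
  · exact factP_blk932
  · exact factP_blk933
  · exact factP_blk934
  · exact factP_blk935
  · exact factP_blk936
  · exact factP_blk937
  · exact factP_blk938
  · exact factP_blk939
  · exact factP_blk940
  · exact factP_blk941
  · exact factP_blk942
  · exact factP_blk943
  · exact factP_blk944
  · exact factP_blk945
  · exact factP_blk946
  · exact factP_blk947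
  · exact factP_blk948
  · exact factP_blk949
  · exact factP_blk950
  · exact factP_blk951
  · exact factP_blk952
  · exact factP_blk953
  · exact factP_blk954
  · exact factP_blk955
  · exact factP_blk956
  · exact factP_blk957
  · exact factP_blk958
  · exact factP_blk959

end

end Cfsg.Agent.Lib.Helper28.Y555.C31671
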