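import Cfsg.Agent.Lib.Helper28.Y555.C31671.ChkDefs

set_option autoImplicit false
set_option linter.unusedVariables false
set_option Elab.async false

namespace Cfsg.Agent.Lib.Helper28.Y555.C31671

open Cfsg.Agent.Lib.Helper28.Y555Sub.P10 (Gen)
open Cfsg.Agent.Lib.Helper28.TC

noncomputable section

theorem permP_blk816 : allRange (guard nn permP) 5 (816 * 2 ^ 5) = true := by decide +kernel
theorem permP_blk817 : allRange (guard nn permP) 5 (817 * 2 ^ 5) = true := by decide +kernel
theorem permP_blk818 : allRange (guard nn permP) 5 (818 * 2 ^ 5) = true := by decide +kernel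
theorem permP_blk819 : allRange (guard nn permP) 5 (819 * 2 ^ 5) = true := by decide +kernel
theorem permP_blk820 : allRange (guard nn permP) 5 (820 * 2 ^ 5) = true := by decide +kernel
theorem permP_blk821 : allRange (guard nn permP) 5 (821 * 2 ^ 5) = true := by decide +kernel
theorem permP_blk822 : allRange (guard nn permP) 5 (822 * 2 ^ 5) = true := by decide +kernel
theorem permP_blk823 : allRange (guard nn permP) 5 (823 * 2 ^ 5) = true := by decide +kernel
theorem permP_blk824 : allRange (guard nn permP) 5 (824 * 2 ^ 5) = true := by decide +kernel
theorem permP_blk825 : allRange (guard nn permP) 5 (825 * 2 ^ 5) = true := by decide +kernel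
theorem permP_blk826 : allRange (guard nn permP) 5 (826 * 2 ^ 5) = true := by decide +kernel
theorem permP_blk827 : allRange (guard nn permP) 5 (827 * 2 ^ 5) = true := by decide +kernel
theorem permP_blk828 : allRange (guard nn permP) 5 (828 * 2 ^ 5) = true := by decide +kernel
theorem permP_blk829 : allRange (guard nn permP) 5 (829 * 2 ^ 5) = true := by decide +kernel
theorem permP_blk830 : allRange (guard nn permP) 5 (830 * 2 ^ 5) = true := by decide +kernel
theorem permP_blk831 : allRange (guard nn permP) 5 (831 * 2 ^ 5) = true := by decide +kernel
theorem permP_blk832 : allRange (guard nn permP) 5 (832 * 2 ^ 5) = true := by decide +kernel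
theorem permP_blk833 : allRange (guard nn permP) 5 (833 * 2 ^ 5) = true := by decide +kernel
theorem permP_blk834 : allRange (guard nn permP) 5 (834 * 2 ^ 5) = true := by decide +kernel
theorem permP_blk835 : allRange (guard nn permP) 5 (835 * 2 ^ 5) = true := by decide +kernel
theorem permP_blk836 : allRange (guard nn permP) 5 (836 * 2 ^ 5) = true := by decide +kernel
theorem permP_blk837 : allRange (guard nn permP) 5 (837 * 2 ^ 5) = true := by decide +kernel
theorem permP_blk838 : allRange (guard nn permP) 5 (838 * 2 ^ 5) = true := by decide +kernel
theorem permP_blk839 : allRange (guard nn permP) 5 (839 * 2 ^ 5) = true := by decide +kernel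
theorem permP_blk840 : allRange (guard nn permP) 5 (840 * 2 ^ 5) = true := by decide +kernel
theorem permP_blk841 : allRange (guard nn permP) 5 (841 * 2 ^ 5) = true := by decide +kernel
theorem permP_blk842 : allRange (guard nn permP) 5 (842 * 2 ^ 5) = true := by decide +kernel
theorem permP_blk843 : allRange (guard nn permP) 5 (843 * 2 ^ 5) = true := by decide +kernel
theorem permP_blk844 : allRange (guard nn permP) 5 (844 * 2 ^ 5) = true := by decide +kernel
theorem permP_blk845 : allRange (guard nn permP) 5 (845 * 2 ^ 5) = true := by decide +kernel
theorem permP_blk846 : allRange (guard nn permP) 5 (846 * 2 ^ 5) = true := by decide +kernel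
theorem permP_blk847 : allRange (guard nn permP) 5 (847 * 2 ^ 5) = true := by decide +kernel
theorem permP_blk848 : allRange (guard nn permP) 5 (848 * 2 ^ 5) = true := by decide +kernel
theorem permP_blk849 : allRange (guard nn permP) 5 (849 * 2 ^ 5) = true := by decide +kernel
theorem permP_blk850 : allRange (guard nn permP) 5 (850 * 2 ^ 5) = true := by decide +kernel
theorem permP_blk851 : allRange (guard nn permP) 5 (851 * 2 ^ 5) = true := by decide +kernel
theorem permP_blk852 : allRange (guard nn permP) 5 (852 * 2 ^ 5) = true := by decide +kernel
theorem permP_blk853 : allRange (guard nn permP) 5 (853 * 2 ^ 5) = true := by decide +kernel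
theorem permP_blk854 : allRange (guard nn permP) 5 (854 * 2 ^ 5) = true := by decide +kernel
theorem permP_blk855 : allRange (guard nn permP) 5 (855 * 2 ^ 5) = true := by decide +kernel
theorem permP_blk856 : allRange (guard nn permP) 5 (856 * 2 ^ 5) = true := by decide +kernel
theorem permP_blk857 : allRange (guard nn permP) 5 (857 * 2 ^ 5) = true := by decide +kernel
theorem permP_blk858 : allRange (guard nn permP) 5 (858 * 2 ^ 5) = true := by decide +kernel
theorem permP_blk859 : allRange (guard nn permP) 5 (859 * 2 ^ 5) = true := by decide +kernel
theorem permP_blk860 : allRange (guard nn permP) 5 (860 * 2 ^ 5) = true := by decide +kernel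
theorem permP_blk861 : allRange (guard nn permP) 5 (861 * 2 ^ 5) = true := by decide +kernel
theorem permP_blk862 : allRange (guard nn permP) 5 (862 * 2 ^ 5) = true := by decide +kernel
theorem permP_blk863 : allRange (guard nn permP) 5 (863 * 2 ^ 5) = true := by decide +kernel
theorem permP_f17 : ∀ k, 816 ≤ k → k < 864 → allRange (guard nn permP) 5 (k * 2 ^ 5) = true := by
  intro k h1 h2
  interval_cases k
  · exact permP_blk816
  · exact permP_blk817
  · exact permP_blk818
  · exact permP_blk819
  · exact permP_blk820
  · exact permP_blk821
  · exact permP_blk822
  · exact permP_blk823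
  · exact permP_blk824
  · exact permP_blk825
  · exact permP_blk826
  · exact permP_blk827
  · exact permP_blk828
  · exact permP_blk829
  · exact permP_blk830
  · exact permP_blk831
  · exact permP_blk832
  · exact permP_blk833
  · exact permP_blk834
  · exact permP_blk835
  · exact permP_blk836
  · exact permP_blk837
  · exact permP_blk838
  · exact permP_blk839
  · exact permP_blk840
  · exact permP_blk841
  · exact permP_blk842
  · exact permP_blk843
  · exact permP_blk844
  · exact permP_blk845
  · exact permP_blk846
  · exact permP_blk847
  · exact permP_blk848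
  · exact permP_blk849
  · exact permP_blk850
  · exact permP_blk851
  · exact permP_blk852
  · exact permP_blk853
  · exact permP_blk854
  · exact permP_blk855
  · exact permP_blk856
  · exact permP_blk857
  · exact permP_blk858
  · exact permP_blk859
  · exact permP_blk860
  · exact permP_blk861
  · exact permP_blk862
  · exact permP_blk863

end

end Cfsg.Agent.Lib.Helper28.Y555.C31671
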