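import Cfsg.Agent.Lib.Helper28.Y555.C31671.ChkDefs

set_option autoImplicit false
set_option linter.unusedVariables false
set_option Elab.async false

namespace Cfsg.Agent.Lib.Helper28.Y555.C31671

open Cfsg.Agent.Lib.Helper28.Y555Sub.P10 (Gen)
open Cfsg.Agent.Lib.Helper28.TC

noncomputable section

theorem permP_blk912 : allRange (guard nn permP) 5 (912 * 2 ^ 5) = true := by decide +kernel
theorem permP_blk913 : allRange (guard nn permP) 5 (913 * 2 ^ 5) = true := by decide +kernel
theorem permP_blk914 : allRange (guard nn permP) 5 (914 * 2 ^ 5) = true := by decide +kernel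
theorem permP_blk915 : allRange (guard nn permP) 5 (915 * 2 ^ 5) = true := by decide +kernel
theorem permP_blk916 : allRange (guard nn permP) 5 (916 * 2 ^ 5) = true := by decide +kernel
theorem permP_blk917 : allRange (guard nn permP) 5 (917 * 2 ^ 5) = true := by decide +kernel
theorem permP_blk918 : allRange (guard nn permP) 5 (918 * 2 ^ 5) = true := by decide +kernel
theorem permP_blk919 : allRange (guard nn permP) 5 (919 * 2 ^ 5) = true := by decide +kernel
theorem permP_blk920 : allRange (guard nn permP) 5 (920 * 2 ^ 5) = true := by decide +kernel
theorem permP_blk921 : allRange (guard nn permP) 5 (921 * 2 ^ 5) = true := by decide +kernel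
theorem permP_blk922 : allRange (guard nn permP) 5 (922 * 2 ^ 5) = true := by decide +kernel
theorem permP_blk923 : allRange (guard nn permP) 5 (923 * 2 ^ 5) = true := by decide +kernel
theorem permP_blk924 : allRange (guard nn permP) 5 (924 * 2 ^ 5) = true := by decide +kernel
theorem permP_blk925 : allRange (guard nn permP) 5 (925 * 2 ^ 5) = true := by decide +kernel
theorem permP_blk926 : allRange (guard nn permP) 5 (926 * 2 ^ 5) = true := by decide +kernel
theorem permP_blk927 : allRange (guard nn permP) 5 (927 * 2 ^ 5) = true := by decide +kernel
theorem permP_blk928 : allRange (guard nn permP) 5 (928 * 2 ^ 5) = true := by decide +kernel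
theorem permP_blk929 : allRange (guard nn permP) 5 (929 * 2 ^ 5) = true := by decide +kernel
theorem permP_blk930 : allRange (guard nn permP) 5 (930 * 2 ^ 5) = true := by decide +kernel
theorem permP_blk931 : allRange (guard nn permP) 5 (931 * 2 ^ 5) = true := by decide +kernel
theorem permP_blk932 : allRange (guard nn permP) 5 (932 * 2 ^ 5) = true := by decide +kernel
theorem permP_blk933 : allRange (guard nn permP) 5 (933 * 2 ^ 5) = true := by decide +kernel
theorem permP_blk934 : allRange (guard nn permP) 5 (934 * 2 ^ 5) = true := by decide +kernel
theorem permP_blk935 : allRange (guard nn permP) 5 (935 * 2 ^ 5) = true := by decide +kernel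
theorem permP_blk936 : allRange (guard nn permP) 5 (936 * 2 ^ 5) = true := by decide +kernel
theorem permP_blk937 : allRange (guard nn permP) 5 (937 * 2 ^ 5) = true := by decide +kernel
theorem permP_blk938 : allRange (guard nn permP) 5 (938 * 2 ^ 5) = true := by decide +kernel
theorem permP_blk939 : allRange (guard nn permP) 5 (939 * 2 ^ 5) = true := by decide +kernel
theorem permP_blk940 : allRange (guard nn permP) 5 (940 * 2 ^ 5) = true := by decide +kernel
theorem permP_blk941 : allRange (guard nn permP) 5 (941 * 2 ^ 5) = true := by decide +kernel
theorem permP_blk942 : allRange (guard nn permP) 5 (942 * 2 ^ 5) = true := by decide +kernel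
theorem permP_blk943 : allRange (guard nn permP) 5 (943 * 2 ^ 5) = true := by decide +kernel
theorem permP_blk944 : allRange (guard nn permP) 5 (944 * 2 ^ 5) = true := by decide +kernel
theorem permP_blk945 : allRange (guard nn permP) 5 (945 * 2 ^ 5) = true := by decide +kernel
theorem permP_blk946 : allRange (guard nn permP) 5 (946 * 2 ^ 5) = true := by decide +kernel
theorem permP_blk947 : allRange (guard nn permP) 5 (947 * 2 ^ 5) = true := by decide +kernel
theorem permP_blk948 : allRange (guard nn permP) 5 (948 * 2 ^ 5) = true := by decide +kernel
theorem permP_blk949 : allRange (guard nn permP) 5 (949 * 2 ^ 5) = true := by decide +kernel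
theorem permP_blk950 : allRange (guard nn permP) 5 (950 * 2 ^ 5) = true := by decide +kernel
theorem permP_blk951 : allRange (guard nn permP) 5 (951 * 2 ^ 5) = true := by decide +kernel
theorem permP_blk952 : allRange (guard nn permP) 5 (952 * 2 ^ 5) = true := by decide +kernel
theorem permP_blk953 : allRange (guard nn permP) 5 (953 * 2 ^ 5) = true := by decide +kernel
theorem permP_blk954 : allRange (guard nn permP) 5 (954 * 2 ^ 5) = true := by decide +kernel
theorem permP_blk955 : allRange (guard nn permP) 5 (955 * 2 ^ 5) = true := by decide +kernel
theorem permP_blk956 : allRange (guard nn permP) 5 (956 * 2 ^ 5) = true := by decide +kernel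
theorem permP_blk957 : allRange (guard nn permP) 5 (957 * 2 ^ 5) = true := by decide +kernel
theorem permP_blk958 : allRange (guard nn permP) 5 (958 * 2 ^ 5) = true := by decide +kernel
theorem permP_blk959 : allRange (guard nn permP) 5 (959 * 2 ^ 5) = true := by decide +kernel
theorem permP_f19 : ∀ k, 912 ≤ k → k < 960 → allRange (guard nn permP) 5 (k * 2 ^ 5) = true := by
  intro k h1 h2
  interval_cases k
  · exact permP_blk912
  · exact permP_blk913
  · exact permP_blk914
  · exact permP_blk915
  · exact permP_blk916
  · exact permP_blk917
  · exact permP_blk918
  · exact permP_blk919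
  · exact permP_blk920
  · exact permP_blk921
  · exact permP_blk922
  · exact permP_blk923
  · exact permP_blk924
  · exact permP_blk925
  · exact permP_blk926
  · exact permP_blk927
  · exact permP_blk928
  · exact permP_blk929
  · exact permP_blk930
  · exact permP_blk931
  · exact permP_blk932
  · exact permP_blk933
  · exact permP_blk934
  · exact permP_blk935
  · exact permP_blk936
  · exact permP_blk937
  · exact permP_blk938
  · exact permP_blk939
  · exact permP_blk940
  · exact permP_blk941
  · exact permP_blk942
  · exact permP_blk943
  · exact permP_blk944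
  · exact permP_blk945
  · exact permP_blk946
  · exact permP_blk947
  · exact permP_blk948
  · exact permP_blk949
  · exact permP_blk950
  · exact permP_blk951
  · exact permP_blk952
  · exact permP_blk953
  · exact permP_blk954
  · exact permP_blk955
  · exact permP_blk956
  · exact permP_blk957
  · exact permP_blk958
  · exact permP_blk959

end

end Cfsg.Agent.Lib.Helper28.Y555.C31671
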