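import Cfsg.Agent.Lib.Helper28.Y555.C31671.ChkP0
import Cfsg.Agent.Lib.Helper28.Y555.C31671.ChkP1
import Cfsg.Agent.Lib.Helper28.Y555.C31671.ChkP2
import Cfsg.Agent.Lib.Helper28.Y555.C31671.ChkP3
import Cfsg.Agent.Lib.Helper28.Y555.C31671.ChkP4
import Cfsg.Agent.Lib.Helper28.Y555.C31671.ChkP5
import Cfsg.Agent.Lib.Helper28.Y555.C31671.ChkP6
import Cfsg.Agent.Lib.Helper28.Y555.C31671.ChkP7
import Cfsg.Agent.Lib.Helper28.Y555.C31671.ChkP8
import Cfsg.Agent.Lib.Helper28.Y555.C31671.ChkP9
import Cfsg.Agent.Lib.Helper28.Y555.C31671.ChkP10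
import Cfsg.Agent.Lib.Helper28.Y555.C31671.ChkP11
import Cfsg.Agent.Lib.Helper28.Y555.C31671.ChkP12
import Cfsg.Agent.Lib.Helper28.Y555.C31671.ChkP13
import Cfsg.Agent.Lib.Helper28.Y555.C31671.ChkP14
import Cfsg.Agent.Lib.Helper28.Y555.C31671.ChkP15
import Cfsg.Agent.Lib.Helper28.Y555.C31671.ChkP16
import Cfsg.Agent.Lib.Helper28.Y555.C31671.ChkP17
import Cfsg.Agent.Lib.Helper28.Y555.C31671.ChkP18
import Cfsg.Agent.Lib.Helper28.Y555.C31671.ChkP19
import Cfsg.Agent.Lib.Helper28.Y555.C31671.ChkP20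
import Cfsg.Agent.Lib.Helper28.Y555.C31671.ChkF0
import Cfsg.Agent.Lib.Helper28.Y555.C31671.ChkF1
import Cfsg.Agent.Lib.Helper28.Y555.C31671.ChkF2
import Cfsg.Agent.Lib.Helper28.Y555.C31671.ChkF3
import Cfsg.Agent.Lib.Helper28.Y555.C31671.ChkF4
import Cfsg.Agent.Lib.Helper28.Y555.C31671.ChkF5
import Cfsg.Agent.Lib.Helper28.Y555.C31671.ChkF6
import Cfsg.Agent.Lib.Helper28.Y555.C31671.ChkF7
import Cfsg.Agent.Lib.Helper28.Y555.C31671.ChkF8
import Cfsg.Agent.Lib.Helper28.Y555.C31671.ChkF9
import Cfsg.Agent.Lib.Helper28.Y555.C31671.ChkF10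
import Cfsg.Agent.Lib.Helper28.Y555.C31671.ChkC0
import Cfsg.Agent.Lib.Helper28.Y555.C31671.ChkC1

set_option autoImplicit false
set_option linter.unusedVariables false

namespace Cfsg.Agent.Lib.Helper28.Y555.C31671

open Cfsg.Agent.Lib.Helper28.Y555Sub.P10 (Gen)
open Cfsg.Agent.Lib.Helper28.TC

noncomputable section

def NNpad : ℕ := 62976
def wHot : ℕ := 35
theorem permP_allk : ∀ k, k < 990 → allRange (guard nn permP) 5 (k * 2 ^ 5) = true := by
  intro k hk
  by_cases h0 : k < 48
  · exact permP_f0 k (by omega) h0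
  by_cases h1 : k < 96
  · exact permP_f1 k (by omega) h1
  by_cases h2 : k < 144
  · exact permP_f2 k (by omega) h2
  by_cases h3 : k < 192
  · exact permP_f3 k (by omega) h3
  by_cases h4 : k < 240
  · exact permP_f4 k (by omega) h4
  by_cases h5 : k < 288
  · exact permP_f5 k (by omega) h5
  by_cases h6 : k < 336
  · exact permP_f6 k (by omega) h6
  by_cases h7 : k < 384
  · exact permP_f7 k (by omega) h7
  by_cases h8 : k < 432
  · exact permP_f8 k (by omega) h8
  by_cases h9 : k < 480
  · exact permP_f9 k (by omega) h9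
  by_cases h10 : k < 528
  · exact permP_f10 k (by omega) h10
  by_cases h11 : k < 576
  · exact permP_f11 k (by omega) h11
  by_cases h12 : k < 624
  · exact permP_f12 k (by omega) h12
  by_cases h13 : k < 672
  · exact permP_f13 k (by omega) h13
  by_cases h14 : k < 720
  · exact permP_f14 k (by omega) h14
  by_cases h15 : k < 768
  · exact permP_f15 k (by omega) h15
  by_cases h16 : k < 816
  · exact permP_f16 k (by omega) h16
  by_cases h17 : k < 864
  · exact permP_f17 k (by omega) h17
  by_cases h18 : k < 912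
  · exact permP_f18 k (by omega) h18
  by_cases h19 : k < 960
  · exact permP_f19 k (by omega) h19
  by_cases h20 : k < 990
  · exact permP_f20 k (by omega) h20
  omega
theorem permP_all : ∀ i, i < nn → permP i = true :=
  all_of_blocks nn permP 5 990 (by decide) permP_allk

theorem factP_allk : ∀ k, k < 984 → allRange factP 6 (k * 2 ^ 6) = true := by
  intro k hk
  by_cases h0 : k < 96
  · exact factP_f0 k (by omega) h0
  by_cases h1 : k < 192
  · exact factP_f1 k (by omega) h1
  by_cases h2 : k < 288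
  · exact factP_f2 k (by omega) h2
  by_cases h3 : k < 384
  · exact factP_f3 k (by omega) h3
  by_cases h4 : k < 480
  · exact factP_f4 k (by omega) h4
  by_cases h5 : k < 576
  · exact factP_f5 k (by omega) h5
  by_cases h6 : k < 672
  · exact factP_f6 k (by omega) h6
  by_cases h7 : k < 768
  · exact factP_f7 k (by omega) h7
  by_cases h8 : k < 864
  · exact factP_f8 k (by omega) h8
  by_cases h9 : k < 960
  · exact factP_f9 k (by omega) h9
  by_cases h10 : k < 984
  · exact factP_f10 k (by omega) h10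
  omega
theorem factP_all : ∀ i, i < NNpad → factP i = true :=
  allBlocks_spec factP 6 984 factP_allk

theorem closedP_allk : ∀ k, k < 124 → allRange (guard nn closedP) 8 (k * 2 ^ 8) = true := by
  intro k hk
  by_cases h0 : k < 64
  · exact closedP_f0 k (by omega) h0
  by_cases h1 : k < 124
  · exact closedP_f1 k (by omega) h1
  omega
theorem closedP_all : ∀ i, i < nn → closedP i = true :=
  all_of_blocks nn closedP 8 124 (by decide) closedP_allk

theorem hotA_lt : hotA < 2 ^ (35 * 62976) := by decide +kernel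
theorem hotE0_lt : hotE0 < 2 ^ (35 * 62976) := by decide +kernel
theorem hotE1_lt : hotE1 < 2 ^ (35 * 62976) := by decide +kernel
theorem hotE2_lt : hotE2 < 2 ^ (35 * 62976) := by decide +kernel
theorem hotE3_lt : hotE3 < 2 ^ (35 * 62976) := by decide +kernel
theorem hotE4_lt : hotE4 < 2 ^ (35 * 62976) := by decide +kernel
theorem hotE5_lt : hotE5 < 2 ^ (35 * 62976) := by decide +kernel
theorem hotE6_lt : hotE6 < 2 ^ (35 * 62976) := by decide +kernel
theorem hotE7_lt : hotE7 < 2 ^ (35 * 62976) := by decide +kernel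
theorem hotE8_lt : hotE8 < 2 ^ (35 * 62976) := by decide +kernel
theorem hotE9_lt : hotE9 < 2 ^ (35 * 62976) := by decide +kernel
theorem subFix : allList (fun w => Nat.beq (act tf w 0) 0) subWords = true := by decide +kernel

end

end Cfsg.Agent.Lib.Helper28.Y555.C31671
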