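import Cfsg.Agent.Lib.Helper28.Y555.C31671.ChkDefs

set_option autoImplicit false
set_option linter.unusedVariables false
set_option Elab.async false

namespace Cfsg.Agent.Lib.Helper28.Y555.C31671

open Cfsg.Agent.Lib.Helper28.Y555Sub.P10 (Gen)
open Cfsg.Agent.Lib.Helper28.TC

noncomputable section

theorem factP_blk960 : allRange factP 6 (960 * 2 ^ 6) = true := by decide +kernel
theorem factP_blk961 : allRange factP 6 (961 * 2 ^ 6) = true := by decide +kernel
theorem factP_blk962 : allRange factP 6 (962 * 2 ^ 6) = true := by decide +kernel
theorem factP_blk963 : allRange factP 6 (963 * 2 ^ 6) = true := by decide +kernel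
theorem factP_blk964 : allRange factP 6 (964 * 2 ^ 6) = true := by decide +kernel
theorem factP_blk965 : allRange factP 6 (965 * 2 ^ 6) = true := by decide +kernel
theorem factP_blk966 : allRange factP 6 (966 * 2 ^ 6) = true := by decide +kernel
theorem factP_blk967 : allRange factP 6 (967 * 2 ^ 6) = true := by decide +kernel
theorem factP_blk968 : allRange factP 6 (968 * 2 ^ 6) = true := by decide +kernel
theorem factP_blk969 : allRange factP 6 (969 * 2 ^ 6) = true := by decide +kernel
theorem factP_blk970 : allRange factP 6 (970 * 2 ^ 6) = true := by decide +kernel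
theorem factP_blk971 : allRange factP 6 (971 * 2 ^ 6) = true := by decide +kernel
theorem factP_blk972 : allRange factP 6 (972 * 2 ^ 6) = true := by decide +kernel
theorem factP_blk973 : allRange factP 6 (973 * 2 ^ 6) = true := by decide +kernel
theorem factP_blk974 : allRange factP 6 (974 * 2 ^ 6) = true := by decide +kernel
theorem factP_blk975 : allRange factP 6 (975 * 2 ^ 6) = true := by decide +kernel
theorem factP_blk976 : allRange factP 6 (976 * 2 ^ 6) = true := by decide +kernel
theorem factP_blk977 : allRange factP 6 (977 * 2 ^ 6) = true := by decide +kernel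
theorem factP_blk978 : allRange factP 6 (978 * 2 ^ 6) = true := by decide +kernel
theorem factP_blk979 : allRange factP 6 (979 * 2 ^ 6) = true := by decide +kernel
theorem factP_blk980 : allRange factP 6 (980 * 2 ^ 6) = true := by decide +kernel
theorem factP_blk981 : allRange factP 6 (981 * 2 ^ 6) = true := by decide +kernel
theorem factP_blk982 : allRange factP 6 (982 * 2 ^ 6) = true := by decide +kernel
theorem factP_blk983 : allRange factP 6 (983 * 2 ^ 6) = true := by decide +kernel
theorem factP_f10 : ∀ k, 960 ≤ k → k < 984 → allRange factP 6 (k * 2 ^ 6) = true := by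
  intro k h1 h2
  interval_cases k
  · exact factP_blk960
  · exact factP_blk961
  · exact factP_blk962
  · exact factP_blk963
  · exact factP_blk964
  · exact factP_blk965
  · exact factP_blk966
  · exact factP_blk967
  · exact factP_blk968
  · exact factP_blk969
  · exact factP_blk970
  · exact factP_blk971
  · exact factP_blk972
  · exact factP_blk973
  · exact factP_blk974
  · exact factP_blk975
  · exact factP_blk976
  · exact factP_blk977
  · exact factP_blk978
  · exact factP_blk979
  · exact factP_blk980
  · exact factP_blk981
  · exact factP_blk982
  · exact factP_blk983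

end

end Cfsg.Agent.Lib.Helper28.Y555.C31671
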