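import Cfsg.Agent.Lib.Helper28.Y555.C31671.ChkDefs

set_option autoImplicit false
set_option linter.unusedVariables false
set_option Elab.async false

namespace Cfsg.Agent.Lib.Helper28.Y555.C31671

open Cfsg.Agent.Lib.Helper28.Y555Sub.P10 (Gen)
open Cfsg.Agent.Lib.Helper28.TC

noncomputable section

theorem permP_blk960 : allRange (guard nn permP) 5 (960 * 2 ^ 5) = true := by decide +kernel
theorem permP_blk961 : allRange (guard nn permP) 5 (961 * 2 ^ 5) = true := by decide +kernel
theorem permP_blk962 : allRange (guard nn permP) 5 (962 * 2 ^ 5) = true := by decide +kernel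
theorem permP_blk963 : allRange (guard nn permP) 5 (963 * 2 ^ 5) = true := by decide +kernel
theorem permP_blk964 : allRange (guard nn permP) 5 (964 * 2 ^ 5) = true := by decide +kernel
theorem permP_blk965 : allRange (guard nn permP) 5 (965 * 2 ^ 5) = true := by decide +kernel
theorem permP_blk966 : allRange (guard nn permP) 5 (966 * 2 ^ 5) = true := by decide +kernel
theorem permP_blk967 : allRange (guard nn permP) 5 (967 * 2 ^ 5) = true := by decide +kernel
theorem permP_blk968 : allRange (guard nn permP) 5 (968 * 2 ^ 5) = true := by decide +kernel
theorem permP_blk969 : allRange (guard nn permP) 5 (969 * 2 ^ 5) = true := by decide +kernel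
theorem permP_blk970 : allRange (guard nn permP) 5 (970 * 2 ^ 5) = true := by decide +kernel
theorem permP_blk971 : allRange (guard nn permP) 5 (971 * 2 ^ 5) = true := by decide +kernel
theorem permP_blk972 : allRange (guard nn permP) 5 (972 * 2 ^ 5) = true := by decide +kernel
theorem permP_blk973 : allRange (guard nn permP) 5 (973 * 2 ^ 5) = true := by decide +kernel
theorem permP_blk974 : allRange (guard nn permP) 5 (974 * 2 ^ 5) = true := by decide +kernel
theorem permP_blk975 : allRange (guard nn permP) 5 (975 * 2 ^ 5) = true := by decide +kernel
theorem permP_blk976 : allRange (guard nn permP) 5 (976 * 2 ^ 5) = true := by decide +kernel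
theorem permP_blk977 : allRange (guard nn permP) 5 (977 * 2 ^ 5) = true := by decide +kernel
theorem permP_blk978 : allRange (guard nn permP) 5 (978 * 2 ^ 5) = true := by decide +kernel
theorem permP_blk979 : allRange (guard nn permP) 5 (979 * 2 ^ 5) = true := by decide +kernel
theorem permP_blk980 : allRange (guard nn permP) 5 (980 * 2 ^ 5) = true := by decide +kernel
theorem permP_blk981 : allRange (guard nn permP) 5 (981 * 2 ^ 5) = true := by decide +kernel
theorem permP_blk982 : allRange (guard nn permP) 5 (982 * 2 ^ 5) = true := by decide +kernel
theorem permP_blk983 : allRange (guard nn permP) 5 (983 * 2 ^ 5) = true := by decide +kernel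
theorem permP_blk984 : allRange (guard nn permP) 5 (984 * 2 ^ 5) = true := by decide +kernel
theorem permP_blk985 : allRange (guard nn permP) 5 (985 * 2 ^ 5) = true := by decide +kernel
theorem permP_blk986 : allRange (guard nn permP) 5 (986 * 2 ^ 5) = true := by decide +kernel
theorem permP_blk987 : allRange (guard nn permP) 5 (987 * 2 ^ 5) = true := by decide +kernel
theorem permP_blk988 : allRange (guard nn permP) 5 (988 * 2 ^ 5) = true := by decide +kernel
theorem permP_blk989 : allRange (guard nn permP) 5 (989 * 2 ^ 5) = true := by decide +kernel
theorem permP_f20 : ∀ k, 960 ≤ k → k < 990 → allRange (guard nn permP) 5 (k * 2 ^ 5) = true := by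
  intro k h1 h2
  interval_cases k
  · exact permP_blk960
  · exact permP_blk961
  · exact permP_blk962
  · exact permP_blk963
  · exact permP_blk964
  · exact permP_blk965
  · exact permP_blk966
  · exact permP_blk967
  · exact permP_blk968
  · exact permP_blk969
  · exact permP_blk970
  · exact permP_blk971
  · exact permP_blk972
  · exact permP_blk973
  · exact permP_blk974
  · exact permP_blk975
  · exact permP_blk976
  · exact permP_blk977
  · exact permP_blk978
  · exact permP_blk979
  · exact permP_blk980
  · exact permP_blk981
  · exact permP_blk982
  · exact permP_blk983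
  · exact permP_blk984
  · exact permP_blk985
  · exact permP_blk986
  · exact permP_blk987
  · exact permP_blk988
  · exact permP_blk989

end

end Cfsg.Agent.Lib.Helper28.Y555.C31671
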